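import Groth.Prelude.Def_Coh
import Groth.Prelude.Def_CohTop
import Groth.Prelude.Def_UnitsSh
import Mathlib.Topology.Sheaves.LocallySurjective
import Mathlib.CategoryTheory.Sites.LeftExact
import Mathlib.Algebra.Homology.ShortComplex.ShortExact

/-! Sheaves of abelian groups on a scheme, tested on affine opens. -/

universe u

open CategoryTheory CategoryTheory.Limits AlgebraicGeometry Opposite TopologicalSpace

namespace Groth.Agent.MiscTwoH99.UnitsThick

variable {X : Scheme.{u}} {F G H : CohTop.Ab X.toTopCat}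

/-- Restriction of sections. -/
abbrev res (F : CohTop.Ab X.toTopCat) {U V : X.Opens} (h : V ≤ U) (s : F.obj.obj (op U)) : F.obj.obj (op V) :=
  F.obj.map (homOfLE h).op s

theorem app_res (η : F ⟶ G) {U V : X.Opens} (h : V ≤ U) (s : F.obj.obj (op U)) :
    η.hom.app (op V) (res F h s) = res G h (η.hom.app (op U) s) :=
  ConcreteCategory.congr_hom (η.hom.naturality (homOfLE h).op) s

theorem exists_affine_le {U : X.Opens} {x : X} (hx : x ∈ U) : ∃ V : X.Opens, IsAffineOpen V ∧ x ∈ V ∧ V ≤ U := by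
  obtain ⟨V, hV, hxV, hVU⟩ := exists_isAffineOpen_mem_and_subset hx
  exact ⟨V, hV, hxV, hVU⟩

theorem section_ext {U : X.Opens} {s t : F.obj.obj (op U)}
    (h : ∀ x ∈ U, ∃ (V : X.Opens) (hV : V ≤ U), x ∈ V ∧ res F hV s = res F hV t) : s = t := by
  choose V hV hxV e using h
  exact TopCat.Sheaf.eq_of_locally_eq' F (fun x : U => V x.1 x.2) U (fun x => homOfLE (hV x.1 x.2))
    (fun y hy => Opens.mem_iSup.mpr ⟨⟨y, hy⟩, hxV y hy⟩) s t fun x => e x.1 x.2

theorem injective_of_mono (η : F ⟶ G) [Mono η] (V : X.Opens) : Function.Injective (η.hom.app (op V)) := by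
  haveI : Mono η.hom := (sheafToPresheaf _ _).map_mono η
  haveI : Mono (η.hom.app (op V)) := inferInstance
  exact (AddCommGrpCat.mono_iff_injective _).mp inferInstance

theorem hom_ext_affine {η η' : F ⟶ G}
    (h : ∀ (V : X.Opens), IsAffineOpen V → ∀ s, η.hom.app (op V) s = η'.hom.app (op V) s) : η = η' := by
  apply Sheaf.hom_ext
  refine NatTrans.ext (funext fun U => ConcreteCategory.hom_ext _ _ fun s => ?_)
  obtain ⟨U⟩ := U
  refine section_ext fun x hx => ?_
  obtain ⟨V, hV, hxV, hVU⟩ := exists_affine_le hx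
  exact ⟨V, hVU, hxV, by rw [← app_res, ← app_res, h V hV]⟩

theorem epi_of_affine (η : F ⟶ G)
    (h : ∀ (V : X.Opens), IsAffineOpen V → Function.Surjective (η.hom.app (op V))) : Epi η := by
  refine (TopCat.Sheaf.isLocallySurjective_iff_epi η).mp ((TopCat.Presheaf.isLocallySurjective_iff _).mpr ?_)
  intro U t x hx
  obtain ⟨V, hV, hxV, hVU⟩ := exists_affine_le hx
  obtain ⟨s, hs⟩ := h V hV (res G hVU t)
  exact ⟨V, hVU, ⟨s, hs⟩, hxV⟩

theorem mono_of_affine (η : F ⟶ G)
    (h : ∀ (V : X.Opens), IsAffineOpen V → Function.Injective (η.hom.app (op V))) : Mono η := by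
  refine ⟨fun {W} a b hab => hom_ext_affine fun V hV s => h V hV ?_⟩
  exact congrArg (fun q : W ⟶ G => q.hom.app (op V) s) hab

/-- A sequence exact on affine opens is short exact. -/
theorem shortExact_of_affine (S : ShortComplex (CohTop.Ab X.toTopCat))
    (hf : ∀ (V : X.Opens), IsAffineOpen V → Function.Injective (S.f.hom.app (op V)))
    (hex : ∀ (V : X.Opens), IsAffineOpen V → ∀ s, S.g.hom.app (op V) s = 0 → ∃ r, S.f.hom.app (op V) r = s)
    (hg : ∀ (V : X.Opens), IsAffineOpen V → Function.Surjective (S.g.hom.app (op V))) : S.ShortExact := by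
  haveI := mono_of_affine S.f hf
  haveI := epi_of_affine S.g hg
  refine ShortComplex.ShortExact.mk (S.exact_iff_epi_kernel_lift.mpr (epi_of_affine _ fun V hV s => ?_))
  let K := kernel.ι S.g
  have h0 : S.g.hom.app (op V) (K.hom.app (op V) s) = 0 :=
    congrArg (fun q : kernel S.g ⟶ S.X₃ => q.hom.app (op V) s) (kernel.condition S.g)
  obtain ⟨r, hr⟩ := hex V hV _ h0
  refine ⟨r, injective_of_mono K V ?_⟩
  refine Eq.trans ?_ hr
  exact congrArg (fun q : S.X₁ ⟶ S.X₂ => q.hom.app (op V) r) (kernel.lift_ι S.g S.f S.zero)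

/-- Two epimorphisms with the same sections killed have isomorphic targets. -/
theorem nonempty_iso_of_ker_eq (a : F ⟶ G) (b : F ⟶ H) [Epi a] [Epi b]
    (h : ∀ (V : X.Opens), IsAffineOpen V → ∀ s, a.hom.app (op V) s = 0 ↔ b.hom.app (op V) s = 0) :
    Nonempty (G ≅ H) := by
  have key : ∀ {G H : CohTop.Ab X.toTopCat} (a : F ⟶ G) (b : F ⟶ H),
      (∀ (V : X.Opens), IsAffineOpen V → ∀ s, a.hom.app (op V) s = 0 → b.hom.app (op V) s = 0) →
        kernel.ι a ≫ b = 0 := fun {G H} a b h => hom_ext_affine fun V hV s =>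
    h V hV _ (congrArg (fun q : kernel a ⟶ G => q.hom.app (op V) s) (kernel.condition a))
  let u : G ⟶ H := Abelian.epiDesc a b (key a b fun V hV s => (h V hV s).mp)
  let v : H ⟶ G := Abelian.epiDesc b a (key b a fun V hV s => (h V hV s).mpr)
  have hu : a ≫ u = b := Abelian.comp_epiDesc a b _
  have hv : b ≫ v = a := Abelian.comp_epiDesc b a _
  exact ⟨⟨u, v, (cancel_epi a).mp (by rw [reassoc_of% hu, hv, Category.comp_id]),
    (cancel_epi b).mp (by rw [reassoc_of% hv, hu, Category.comp_id])⟩⟩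

end Groth.Agent.MiscTwoH99.UnitsThick

namespace Groth.Agent.MiscTwoH99.UnitsThick

variable {X : Scheme.{u}} {F G : CohTop.Ab X.toTopCat}

theorem exists_kernel_section (η : F ⟶ G) {V : X.Opens} (s : F.obj.obj (op V)) (h : η.hom.app (op V) s = 0) :
    ∃ r : (kernel η).obj.obj (op V), (kernel.ι η).hom.app (op V) r = s := by
  let Φ := sheafToPresheaf (Opens.grothendieckTopology X) AddCommGrpCat.{u} ⋙ (CategoryTheory.evaluation _ _).obj (op V)
  haveI : Functor.PreservesZeroMorphisms Φ := ⟨fun _ _ => rfl⟩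
  have hk := isLimitForkMapOfIsLimit' Φ (kernel.condition η) (kernelIsKernel η)
  have hex : (ShortComplex.mk (Φ.map (kernel.ι η)) (Φ.map η) (by rw [← Φ.map_comp, kernel.condition, Φ.map_zero])).Exact :=
    ShortComplex.exact_of_f_is_kernel _ hk
  rw [ShortComplex.ab_exact_iff] at hex
  exact hex s h

end Groth.Agent.MiscTwoH99.UnitsThick
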