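import Groth.Agent.S14402
import Groth.Agent.S0462
import Groth.Agent.MiscTwoH99.UnitsThick.Basic
import Mathlib.Algebra.Homology.DerivedCategory.Ext.ExactSequences

/-! Consequences of the long exact sequence of sheaf cohomology. -/

universe u

open CategoryTheory CategoryTheory.Limits CategoryTheory.Abelian TopologicalSpace

namespace Groth.Agent.MiscTwoH99.UnitsThick

variable {X : TopCat.{u}} (S : ShortComplex (CohTop.Ab X)) (hS : S.ShortExact)
include hS

theorem H_map_surjective (q : ℕ) (h : Subsingleton (Sheaf.H S.X₁ (q + 1))) :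
    Function.Surjective (Sheaf.H.map S.g q) := fun x => by
  obtain ⟨y, hy⟩ := Ext.covariant_sequence_exact₃ _ hS x (n₁ := q + 1) rfl (Subsingleton.elim _ _)
  exact ⟨y, hy⟩

theorem subsingleton_H_middle (q : ℕ) (h₁ : Subsingleton (Sheaf.H S.X₁ q)) (h₃ : Subsingleton (Sheaf.H S.X₃ q)) :
    Subsingleton (Sheaf.H S.X₂ q) := by
  refine subsingleton_of_forall_eq 0 fun x => ?_
  obtain ⟨y, rfl⟩ := Ext.covariant_sequence_exact₂ _ hS x (Subsingleton.elim _ _)
  rw [Subsingleton.elim y 0, Ext.zero_comp]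

theorem ker_H_map_equiv (q : ℕ) (r : S.X₂ ⟶ S.X₁) (hr : S.f ≫ r = 𝟙 _) :
    Nonempty (Sheaf.H S.X₁ q ≃+ (Sheaf.H.map S.g q).ker) := by
  have hinj : ∀ y, Sheaf.H.map r q (Sheaf.H.map S.f q y) = y := fun y => by
    show (y.comp (Ext.mk₀ S.f) (add_zero q)).comp (Ext.mk₀ r) (add_zero q) = y
    rw [Ext.comp_assoc_of_third_deg_zero, Ext.mk₀_comp_mk₀, hr, Ext.comp_mk₀_id]
  let φ : Sheaf.H S.X₁ q →+ (Sheaf.H.map S.g q).ker := (Sheaf.H.map S.f q).codRestrict _ fun y => by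
    show (y.comp (Ext.mk₀ S.f) (add_zero q)).comp (Ext.mk₀ S.g) (add_zero q) = 0
    rw [Ext.comp_assoc_of_third_deg_zero, Ext.mk₀_comp_mk₀, S.zero, Ext.mk₀_zero, Ext.comp_zero]
  refine ⟨AddEquiv.ofBijective φ ⟨fun a b h => ?_, fun x => ?_⟩⟩
  · rw [← hinj a, ← hinj b]
    exact congrArg _ (congrArg Subtype.val h)
  · obtain ⟨y, hy⟩ := Ext.covariant_sequence_exact₂ _ hS x.1 x.2
    exact ⟨y, Subtype.ext hy⟩

omit hS in
theorem H_equiv_of_iso {F G : CohTop.Ab X} (e : F ≅ G) (q : ℕ) : Nonempty (Sheaf.H F q ≃+ Sheaf.H G q) :=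
  ⟨{ toFun := Sheaf.H.map e.hom q
     invFun := Sheaf.H.map e.inv q
     left_inv := fun x => by
      show (x.comp (Ext.mk₀ e.hom) (add_zero q)).comp (Ext.mk₀ e.inv) (add_zero q) = x
      rw [Ext.comp_assoc_of_third_deg_zero, Ext.mk₀_comp_mk₀, e.hom_inv_id, Ext.comp_mk₀_id]
     right_inv := fun x => by
      show (x.comp (Ext.mk₀ e.inv) (add_zero q)).comp (Ext.mk₀ e.hom) (add_zero q) = x
      rw [Ext.comp_assoc_of_third_deg_zero, Ext.mk₀_comp_mk₀, e.inv_hom_id, Ext.comp_mk₀_id]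
     map_add' := map_add _ }⟩

omit hS in
theorem H_push_closedImmersion {Y Z : AlgebraicGeometry.Scheme.{u}} (i : Y ⟶ Z) [AlgebraicGeometry.IsClosedImmersion i]
    (F : CohTop.Ab Y.toTopCat) (q : ℕ) :
    Nonempty (Sheaf.H F q ≃+ Sheaf.H ((CohTop.push i.base).obj F) q) :=
  Groth.Agent.S0462.result i.base F (fun p => Groth.Agent.S14402.result i.base i.isClosedEmbedding F p) q

end Groth.Agent.MiscTwoH99.UnitsThick
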