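import Groth.Agent.MiscTwoH99.UnitsThick.Layer
import Groth.Agent.MiscTwoH99.UnitsThick.LES
import Mathlib.RingTheory.Artinian.Ring
import Mathlib.RingTheory.Nakayama

/-! Cohomology of the units which are one on a closed subscheme of the base. -/

universe u

open CategoryTheory CategoryTheory.Limits AlgebraicGeometry Opposite TopologicalSpace

namespace Groth.Agent.MiscTwoH99.UnitsThick

variable {A A₀ A₁ A₂ : Type u} [CommRing A] [CommRing A₀] [CommRing A₁] [CommRing A₂] {X : Scheme.{u}}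
  (f : X ⟶ Spec (CommRingCat.of A))

theorem isZero_Ker (φ : A →+* A₁) (hφ : Function.Surjective φ) (h : RingHom.ker φ = ⊥) : IsZero (Ker f φ) := by
  have : Mono (UnitsSh.comap (incl f φ)) := mono_of_affine _ fun V hV =>
    (injective_iff_map_eq_zero ((UnitsSh.comap (incl f φ)).hom.app (op V)).hom).mpr fun s hs => by
      have h1 := (comap_incl_eq_zero_iff f φ hφ hV s).mp hs
      rw [h, Ideal.map_bot, Ideal.mem_bot, sub_eq_zero] at h1
      refine un_injective (Units.ext ?_)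
      rw [h1, un_zero, Units.val_one]
  exact isZero_kernel_of_mono _

theorem subsingleton_H_of_isZero {Z : TopCat.{u}} {F : CohTop.Ab Z} (h : IsZero F) (q : ℕ) :
    Subsingleton (Sheaf.H F q) := by
  refine subsingleton_of_forall_eq 0 fun (x : Abelian.Ext _ _ _) => ?_
  rw [← Abelian.Ext.comp_mk₀_id x, h.eq_of_src (𝟙 F) 0, Abelian.Ext.mk₀_zero, Abelian.Ext.comp_zero]

theorem H_equiv_closedFibre (φ₀ : A →+* A₀) (h₀ : Function.Surjective φ₀) {I : CohTop.Ab X.toTopCat}
    (e : I ≅ (CohTop.push (incl f φ₀).base).obj (OO (pullback f (Spec.map (CommRingCat.ofHom φ₀))))) (q : ℕ) :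
    Nonempty (Sheaf.H I q ≃+
      Coh.HH (pullback f (Spec.map (CommRingCat.ofHom φ₀))) (Coh.structureModule _) q) := by
  haveI := isClosedImmersion_incl f φ₀ h₀
  obtain ⟨e₁⟩ := H_equiv_of_iso e q
  obtain ⟨e₂⟩ := H_push_closedImmersion (incl f φ₀) (OO _) q
  exact ⟨e₁.trans e₂.symm⟩

/-- One step of the devissage. -/
theorem subsingleton_H_Ker_step [Flat f] (φ₀ : A →+* A₀) (h₀ : Function.Surjective φ₀) (φ₁ : A →+* A₁)
    (h₁ : Function.Surjective φ₁) (φ₂ : A →+* A₂) (h₂ : Function.Surjective φ₂) (t : A)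
    (hker : RingHom.ker φ₂ = RingHom.ker φ₁ ⊔ Ideal.span {t}) (ht : ∀ a, a * t ∈ RingHom.ker φ₁ ↔ a ∈ RingHom.ker φ₀)
    (hsq : t * t ∈ RingHom.ker φ₁) (hnil : ∀ a ∈ RingHom.ker φ₂, IsNilpotent a) (q : ℕ)
    (hvan : Subsingleton (Coh.HH (pullback f (Spec.map (CommRingCat.ofHom φ₀))) (Coh.structureModule _) q))
    (hprev : Subsingleton (Sheaf.H (Ker f φ₁) q)) : Subsingleton (Sheaf.H (Ker f φ₂) q) := by
  obtain ⟨I, j, e, w, hS, ⟨i⟩⟩ := exists_layer f φ₀ h₀ φ₁ h₁ φ₂ h₂ t hker ht hsq hnil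
  obtain ⟨E⟩ := H_equiv_closedFibre f φ₀ h₀ i q
  exact subsingleton_H_middle _ hS q hprev E.toEquiv.subsingleton

theorem isNilpotent_of_mem_maximalIdeal [IsArtinianRing A] [IsLocalRing A] {a : A}
    (ha : a ∈ IsLocalRing.maximalIdeal A) : IsNilpotent a := by
  obtain ⟨n, hn⟩ := IsArtinianRing.isNilpotent_jacobson_bot (R := A)
  rw [IsLocalRing.jacobson_eq_maximalIdeal ⊥ bot_ne_top] at hn
  exact ⟨n, by simpa [hn] using Ideal.pow_mem_pow ha n⟩

/-- Dévissage along the ideals of an Artinian local ring. -/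
theorem subsingleton_H_Ker [IsArtinianRing A] [IsLocalRing A] [Flat f] (q : ℕ)
    (hvan : Subsingleton (Coh.HH (pullback f (Spec.map (CommRingCat.ofHom (IsLocalRing.residue A))))
      (Coh.structureModule _) q))
    (J : Ideal A) (hJ : J ≤ IsLocalRing.maximalIdeal A) :
    Subsingleton (Sheaf.H (Ker f (Ideal.Quotient.mk J)) q) := by
  induction J using WellFoundedLT.induction with
  | ind J IH => ?_
  by_cases hJ0 : J = ⊥
  · exact subsingleton_H_of_isZero (isZero_Ker f _ Ideal.Quotient.mk_surjective (by rw [Ideal.mk_ker, hJ0])) q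
  obtain ⟨K, hK', hmax⟩ := wellFounded_gt.has_min {K : Ideal A | K < J} ⟨⊥, bot_lt_iff_ne_bot.mpr hJ0⟩
  have hK : K < J := hK'
  have hsub : ∀ L, K ≤ L → L ≤ J → L ≠ J → L = K := fun L h1 h2 h3 => by
    by_contra h4
    exact hmax L (lt_of_le_of_ne h2 h3) (lt_of_le_of_ne h1 (Ne.symm h4))
  have hmJ : IsLocalRing.maximalIdeal A * J ≤ K := by
    by_cases h : K ⊔ IsLocalRing.maximalIdeal A * J = J
    · refine absurd ?_ hK.not_ge
      refine Submodule.le_of_le_smul_of_le_jacobson_bot (IsNoetherian.noetherian J)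
        (I := IsLocalRing.maximalIdeal A) ?_ ?_
      · rw [IsLocalRing.jacobson_eq_maximalIdeal ⊥ bot_ne_top]
      · rw [smul_eq_mul]
        exact h.ge
    · exact le_sup_right.trans (hsub _ le_sup_left (sup_le hK.le (Ideal.mul_le.mpr fun a _ b hb => J.mul_mem_left a hb)) h).le
  obtain ⟨t, htJ, htK⟩ := SetLike.exists_of_lt hK
  have htK' : K ⊔ Ideal.span {t} = J := by
    by_contra h
    exact htK ((hsub _ le_sup_left (sup_le hK.le ((Ideal.span_singleton_le_iff_mem J).mpr htJ)) h) ▸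
      Ideal.mem_sup_right (Ideal.mem_span_singleton_self t))
  have h₁ : RingHom.ker (Ideal.Quotient.mk J) = RingHom.ker (Ideal.Quotient.mk K) ⊔ Ideal.span {t} := by
    rw [Ideal.mk_ker, Ideal.mk_ker, htK']
  have h₂ : ∀ a, a * t ∈ RingHom.ker (Ideal.Quotient.mk K) ↔ a ∈ RingHom.ker (IsLocalRing.residue A) := fun a => by
    rw [Ideal.mk_ker, IsLocalRing.ker_residue]
    refine ⟨fun h => ?_, fun h => hmJ (Ideal.mul_mem_mul h htJ)⟩
    by_contra h'
    exact htK ((Ideal.unit_mul_mem_iff_mem K (IsLocalRing.notMem_maximalIdeal.mp h')).mp h)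
  have h₃ : t * t ∈ RingHom.ker (Ideal.Quotient.mk K) := by
    rw [Ideal.mk_ker]
    exact hmJ (Ideal.mul_mem_mul (hJ htJ) htJ)
  have h₄ : ∀ a ∈ RingHom.ker (Ideal.Quotient.mk J), IsNilpotent a := fun a ha => by
    rw [Ideal.mk_ker] at ha
    exact isNilpotent_of_mem_maximalIdeal (hJ ha)
  exact subsingleton_H_Ker_step (A₀ := IsLocalRing.ResidueField A) (A₁ := A ⧸ K) (A₂ := A ⧸ J) f
    (IsLocalRing.residue A) IsLocalRing.residue_surjective (Ideal.Quotient.mk K) Ideal.Quotient.mk_surjective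
    (Ideal.Quotient.mk J) Ideal.Quotient.mk_surjective t h₁ h₂ h₃ h₄ q hvan (IH K hK (hK.le.trans hJ))

theorem map_cst_le_nilradical {J : Ideal A} (hJ : ∀ a ∈ J, IsNilpotent a) (V : X.Opens) :
    J.map (cst f V) ≤ nilradical Γ(X, V) :=
  Ideal.map_le_iff_le_comap.mpr fun a ha => (hJ a ha).map (cst f V)

/-- The units of a thickening surject onto those of the closed subscheme. -/
theorem shortExact_units (φ : A →+* A₁) (hφ : Function.Surjective φ) (hnil : ∀ a ∈ RingHom.ker φ, IsNilpotent a) :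
    (ShortComplex.mk (kernel.ι (UnitsSh.comap (incl f φ))) (UnitsSh.comap (incl f φ))
      (kernel.condition _)).ShortExact := by
  haveI : Epi (UnitsSh.comap (incl f φ)) := epi_of_affine _ fun V hV =>
    comap_surjective (incl f φ) (incl_app_surjective f φ hφ hV) fun x hx =>
      map_cst_le_nilradical f hnil V ((incl_app_eq_zero_iff f φ hφ hV x).mp hx)
  exact ShortComplex.ShortExact.mk (ShortComplex.exact_of_f_is_kernel _ (kernelIsKernel _))

end Groth.Agent.MiscTwoH99.UnitsThick
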