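import Groth.Agent.MiscTwoH99.UnitsThick.Sections

/-! One layer of the units of a flat family over nested closed subschemes of the base. -/

universe u

open CategoryTheory CategoryTheory.Limits AlgebraicGeometry Opposite TopologicalSpace

namespace Groth.Agent.MiscTwoH99.UnitsThick

variable {X Y : Scheme.{u}}

/-- The structure map as a map of sheaves of abelian groups. -/
noncomputable def addComap (i : Y ⟶ X) : OO X ⟶ (CohTop.push i.base).obj (OO Y) :=
  ⟨{ app := fun U => AddCommGrpCat.ofHom (X := (OO X).obj.obj U) (Y := ((CohTop.push i.base).obj (OO Y)).obj.obj U)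
      (i.app U.unop).hom.toAddMonoidHom
     naturality := fun U V h => ConcreteCategory.hom_ext _ _ fun s => by
       obtain ⟨U⟩ := U
       obtain ⟨V⟩ := V
       exact congrArg (fun q => q.hom (fn (V := U) s)) (i.naturality h) }⟩

theorem addComap_eq_zero_iff (i : Y ⟶ X) {V : X.Opens} (s : (OO X).obj.obj (op V)) :
    (addComap i).hom.app (op V) s = 0 ↔ i.app V (fn s) = 0 := Iff.rfl

theorem addComap_surjective (i : Y ⟶ X) {V : X.Opens} (h : Function.Surjective (i.app V)) :
    Function.Surjective ((addComap i).hom.app (op V)) := h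

/-- A unit of the closed subscheme attached to a function whose image is square zero. -/
noncomputable def pushOne (i : Y ⟶ X) (c : ∀ V : X.Opens, Γ(X, V)) {V : X.Opens}
    (hc : i.app V (c V) * i.app V (c V) = 0) (x : Γ(X, V)) : Γ(Y, i ⁻¹ᵁ V)ˣ where
  val := 1 + i.app V (c V) * i.app V x
  inv := 1 - i.app V (c V) * i.app V x
  val_inv := by linear_combination -(i.app V x * i.app V x) * hc
  inv_val := by linear_combination -(i.app V x * i.app V x) * hc

/-- `x ↦ 1 + c x` into the units of the closed subscheme. -/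
noncomputable def pushExpo (i : Y ⟶ X) (c : ∀ V : X.Opens, Γ(X, V))
    (hres : ∀ {U V : X.Opens} (h : V ≤ U), X.presheaf.map (homOfLE h).op (c U) = c V)
    (hc : ∀ V, i.app V (c V) * i.app V (c V) = 0) : OO X ⟶ (CohTop.push i.base).obj (UnitsSh.unitsAb Y) :=
  ⟨{ app := fun U => AddCommGrpCat.ofHom (X := (OO X).obj.obj U)
      (Y := ((CohTop.push i.base).obj (UnitsSh.unitsAb Y)).obj.obj U)
      { toFun := fun s => UnitsSh.sectOfUnit (X := Y.toTopCat) (O := Y.presheaf) (pushOne i c (hc U.unop) (fn s))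
        map_zero' := un_injective (V := i ⁻¹ᵁ U.unop) (Units.ext (by
          show 1 + i.app U.unop (c U.unop) * i.app U.unop (fn 0) = 1
          rw [fn_zero, map_zero, mul_zero, add_zero]))
        map_add' := fun s t => un_injective (V := i ⁻¹ᵁ U.unop) (Units.ext (by
          show 1 + i.app U.unop (c U.unop) * i.app U.unop (fn (s + t)) =
            (1 + i.app U.unop (c U.unop) * i.app U.unop (fn s)) * (1 + i.app U.unop (c U.unop) * i.app U.unop (fn t))
          rw [fn_add, map_add]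
          linear_combination -(i.app U.unop (fn s) * i.app U.unop (fn t)) * hc U.unop)) }
     naturality := fun ⟨U⟩ ⟨V⟩ h => ConcreteCategory.hom_ext _ _ fun s => un_injective (V := i ⁻¹ᵁ V) (Units.ext (by
       show 1 + i.app V (c V) * i.app V (X.presheaf.map h (fn s)) =
         Y.presheaf.map (homOfLE (i.preimage_mono h.unop.le)).op (1 + i.app U (c U) * i.app U (fn s))
       have hn : ∀ z, i.app V (X.presheaf.map h z) =
           Y.presheaf.map (homOfLE (i.preimage_mono h.unop.le)).op (i.app U z) :=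
         fun z => congrArg (fun q => q.hom z) (i.naturality h)
       rw [map_add, map_one, map_mul, ← hn, ← hn, show X.presheaf.map h (c U) = c V from hres h.unop.le])) }⟩

variable {A A₀ A₁ A₂ : Type u} [CommRing A] [CommRing A₀] [CommRing A₁] [CommRing A₂] (f : X ⟶ Spec (CommRingCat.of A))

/-- The units which are one on the closed subscheme. -/
noncomputable abbrev Ker (φ : A →+* A₁) : CohTop.Ab X.toTopCat := kernel (UnitsSh.comap (incl f φ))

theorem comap_incl_eq_zero_iff (φ : A →+* A₁) (hφ : Function.Surjective φ) {V : X.Opens} (hV : IsAffineOpen V)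
    (s : (UnitsSh.unitsAb X).obj.obj (op V)) :
    (UnitsSh.comap (incl f φ)).hom.app (op V) s = 0 ↔ (un s : Γ(X, V)) - 1 ∈ (RingHom.ker φ).map (cst f V) := by
  rw [comap_eq_zero_iff, ← incl_app_eq_zero_iff f φ hφ hV, map_sub, map_one, sub_eq_zero]

theorem exists_layer [Flat f] (φ₀ : A →+* A₀) (h₀ : Function.Surjective φ₀) (φ₁ : A →+* A₁)
    (h₁ : Function.Surjective φ₁) (φ₂ : A →+* A₂) (h₂ : Function.Surjective φ₂) (t : A)
    (hker : RingHom.ker φ₂ = RingHom.ker φ₁ ⊔ Ideal.span {t}) (ht : ∀ a, a * t ∈ RingHom.ker φ₁ ↔ a ∈ RingHom.ker φ₀)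
    (hsq : t * t ∈ RingHom.ker φ₁) (hnil : ∀ a ∈ RingHom.ker φ₂, IsNilpotent a) :
    ∃ (I : CohTop.Ab X.toTopCat) (j : Ker f φ₁ ⟶ Ker f φ₂) (e : Ker f φ₂ ⟶ I) (w : j ≫ e = 0),
      (ShortComplex.mk j e w).ShortExact ∧
        Nonempty (I ≅ (CohTop.push (incl f φ₀).base).obj (OO (pullback f (Spec.map (CommRingCat.ofHom φ₀))))) := by
  let i₁ := incl f φ₁
  have hle : RingHom.ker φ₁ ≤ RingHom.ker φ₂ := hker ▸ le_sup_left
  -- the inclusion
  have hw : kernel.ι (UnitsSh.comap (incl f φ₁)) ≫ UnitsSh.comap (incl f φ₂) = 0 := hom_ext_affine fun V hV s => by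
    refine (comap_incl_eq_zero_iff f φ₂ h₂ hV _).mpr (Ideal.map_mono hle ((comap_incl_eq_zero_iff f φ₁ h₁ hV _).mp ?_))
    exact congrArg (fun q : Ker f φ₁ ⟶ _ => q.hom.app (op V) s) (kernel.condition (UnitsSh.comap (incl f φ₁)))
  let j : Ker f φ₁ ⟶ Ker f φ₂ := kernel.lift _ _ hw
  have hj : j ≫ kernel.ι _ = kernel.ι _ := kernel.lift_ι _ _ _
  haveI : Mono j := mono_of_mono_fac hj
  let g : Ker f φ₂ ⟶ (CohTop.push i₁.base).obj (UnitsSh.unitsAb _) :=
    kernel.ι (UnitsSh.comap (incl f φ₂)) ≫ UnitsSh.comap i₁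
  let e := Abelian.factorThruImage g
  let ι' := Abelian.image.ι g
  have hfac : e ≫ ι' = g := Abelian.image.fac g
  have hje : j ≫ e = 0 := (cancel_mono ι').mp (by
    rw [Category.assoc, hfac, zero_comp]
    show j ≫ kernel.ι (UnitsSh.comap (incl f φ₂)) ≫ _ = 0
    rw [reassoc_of% hj]
    exact kernel.condition _)
  refine ⟨Abelian.image g, j, e, hje, ShortComplex.ShortExact.mk (ShortComplex.exact_of_f_is_kernel _ ?_), ?_⟩
  · refine KernelFork.IsLimit.ofι j hje
      (fun {W} k hk => kernel.lift _ (k ≫ kernel.ι (UnitsSh.comap (incl f φ₂))) ?_) (fun {W} k hk => ?_)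
      (fun {W} k hk m hm => ?_)
    · rw [Category.assoc]
      show k ≫ g = 0
      rw [← hfac, reassoc_of% hk, zero_comp]
    · exact (cancel_mono (kernel.ι (UnitsSh.comap (incl f φ₂)))).mp (by rw [Category.assoc, hj, kernel.lift_ι])
    · exact (cancel_mono (kernel.ι (UnitsSh.comap (incl f φ₁)))).mp (by rw [kernel.lift_ι, ← hm, Category.assoc, hj])
  -- the graded piece
  have hc : ∀ V, i₁.app V (cst f V t) * i₁.app V (cst f V t) = 0 := fun V => by
    rw [← map_mul, ← map_mul]
    exact incl_cst f φ₁ V hsq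
  let θ := pushExpo i₁ (fun V => cst f V t) (fun {U V} h => res_cst f h t) hc
  have hθ : ∀ {V : X.Opens} (_ : IsAffineOpen V) (x : (OO X).obj.obj (op V)),
      θ.hom.app (op V) x = 0 ↔ fn x ∈ (RingHom.ker φ₀).map (cst f V) := fun {V} hV x => by
    rw [← mul_mem_map_iff (flat_cst f hV) ht, ← incl_app_eq_zero_iff f φ₁ h₁ hV, map_mul]
    refine Iff.trans (Iff.trans ?_ (Units.ext_iff (u := pushOne i₁ (fun V => cst f V t) (hc V) (fn x)) (v := 1)))
      (by
        show 1 + i₁.app V (cst f V t) * i₁.app V (fn x) = 1 ↔ _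
        rw [add_eq_left])
    exact ⟨fun h => congrArg (UnitsSh.unitOfSect (X := X.toTopCat) (O := i₁.base _* (pullback f (Spec.map (CommRingCat.ofHom φ₁))).presheaf)) h,
      fun h => congrArg (UnitsSh.sectOfUnit (X := X.toTopCat) (O := i₁.base _* (pullback f (Spec.map (CommRingCat.ofHom φ₁))).presheaf)) h⟩
  -- the value of `θ` is the class of a unit
  have hunit : ∀ {V : X.Opens} (_ : IsAffineOpen V) (x : Γ(X, V)), ∃ r : (Ker f φ₂).obj.obj (op V),
      g.hom.app (op V) r = θ.hom.app (op V) (sect x) := fun {V} hV x => by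
    have hmem : cst f V t * x ∈ (RingHom.ker φ₂).map (cst f V) :=
      Ideal.mul_mem_right _ _ (Ideal.mem_map_of_mem _ (hker ▸ Ideal.mem_sup_right (Ideal.mem_span_singleton_self t)))
    have htn : IsNilpotent (cst f V t * x) :=
      Commute.isNilpotent_mul_right (Commute.all _ _) ((hnil t (hker ▸ Ideal.mem_sup_right (Ideal.mem_span_singleton_self t))).map (cst f V))
    obtain ⟨s, hs⟩ := exists_un_eq htn.isUnit_one_add.unit
    have hs0 : (UnitsSh.comap (incl f φ₂)).hom.app (op V) s = 0 := by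
      rw [comap_incl_eq_zero_iff f φ₂ h₂ hV, hs, IsUnit.unit_spec, add_sub_cancel_left]
      exact hmem
    obtain ⟨r, hr⟩ := exists_kernel_section _ s hs0
    refine ⟨r, ?_⟩
    show (UnitsSh.comap i₁).hom.app (op V) ((kernel.ι (UnitsSh.comap (incl f φ₂))).hom.app (op V) r) = _
    rw [hr]
    refine un_injective (V := i₁ ⁻¹ᵁ V) (Units.ext ?_)
    show i₁.app V (un s : Γ(X, V)) = 1 + i₁.app V (cst f V t) * i₁.app V x
    rw [hs, IsUnit.unit_spec, map_add, map_one, map_mul]
  have hθπ : θ ≫ cokernel.π g = 0 := hom_ext_affine fun V hV x => by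
    obtain ⟨r, hr⟩ := hunit hV (fn x)
    show (cokernel.π g).hom.app (op V) (θ.hom.app (op V) (sect (fn x))) = 0
    rw [← hr]
    exact congrArg (fun q : Ker f φ₂ ⟶ _ => q.hom.app (op V) r) (cokernel.condition g)
  let a : OO X ⟶ Abelian.image g := kernel.lift (cokernel.π g) θ hθπ
  have ha : a ≫ ι' = θ := kernel.lift_ι _ _ _
  haveI : Epi a := by
    refine (TopCat.Sheaf.isLocallySurjective_iff_epi a).mp ((TopCat.Presheaf.isLocallySurjective_iff _).mpr ?_)
    intro U b x hx
    haveI : Epi e := inferInstance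
    obtain ⟨W, hWU, ⟨r, hr⟩, hxW⟩ := (TopCat.Presheaf.isLocallySurjective_iff _).mp
      ((TopCat.Sheaf.isLocallySurjective_iff_epi e).mpr ‹_›) U b x hx
    obtain ⟨V, hV, hxV, hVW⟩ := exists_affine_le hxW
    refine ⟨V, hVW.trans hWU, ?_, hxV⟩
    let r' := res (Ker f φ₂) hVW r
    let s := (kernel.ι (UnitsSh.comap (incl f φ₂))).hom.app (op V) r'
    have hs : (UnitsSh.comap (incl f φ₂)).hom.app (op V) s = 0 :=
      congrArg (fun q : Ker f φ₂ ⟶ _ => q.hom.app (op V) r') (kernel.condition (UnitsSh.comap (incl f φ₂)))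
    have hs' := (comap_incl_eq_zero_iff f φ₂ h₂ hV s).mp hs
    rw [hker, Ideal.map_sup, Ideal.map_span, Set.image_singleton, Submodule.mem_sup] at hs'
    obtain ⟨k, hk, z, hz, hkz⟩ := hs'
    obtain ⟨x', rfl⟩ := Ideal.mem_span_singleton'.mp hz
    refine ⟨sect x', injective_of_mono ι' V ?_⟩
    have h1 : ι'.hom.app (op V) (a.hom.app (op V) (sect x')) = θ.hom.app (op V) (sect x') :=
      congrArg (fun q : OO X ⟶ _ => q.hom.app (op V) (sect x')) ha
    have h2 : θ.hom.app (op V) (sect x') = g.hom.app (op V) r' := by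
      refine un_injective (V := i₁ ⁻¹ᵁ V) (Units.ext ?_)
      show 1 + i₁.app V (cst f V t) * i₁.app V x' = i₁.app V (un s : Γ(X, V))
      rw [show (un s : Γ(X, V)) = 1 + (k + x' * cst f V t) by rw [hkz]; ring, map_add, map_one, map_add, map_mul,
        (incl_app_eq_zero_iff f φ₁ h₁ hV k).mpr hk, zero_add, mul_comm]
    refine h1.trans (h2.trans ?_)
    have h3 : ι'.hom.app (op V) (e.hom.app (op V) r') = g.hom.app (op V) r' :=
      congrArg (fun q : Ker f φ₂ ⟶ _ => q.hom.app (op V) r') hfac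
    rw [← h3, app_res, hr]
    show _ = ι'.hom.app (op V) (res (Abelian.image g) (hVW.trans hWU) b)
    congr 1
    show (Abelian.image g).obj.map _ ((Abelian.image g).obj.map _ b) = _
    rw [← ConcreteCategory.comp_apply, ← Functor.map_comp]
    rfl
  haveI : Epi (addComap (incl f φ₀)) := epi_of_affine _ fun V hV => addComap_surjective _ (incl_app_surjective f φ₀ h₀ hV)
  refine nonempty_iso_of_ker_eq a (addComap (incl f φ₀)) fun V hV x => ?_
  rw [addComap_eq_zero_iff, incl_app_eq_zero_iff f φ₀ h₀ hV, ← hθ hV]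
  have h1 : ι'.hom.app (op V) (a.hom.app (op V) x) = θ.hom.app (op V) x :=
    congrArg (fun q : OO X ⟶ _ => q.hom.app (op V) x) ha
  rw [← h1]
  exact (map_eq_zero_iff _ (injective_of_mono ι' V)).symm

end Groth.Agent.MiscTwoH99.UnitsThick
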