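import Groth.Agent.MiscTwoH99.UnitsThick.Units
import Mathlib.AlgebraicGeometry.Morphisms.Flat
import Mathlib.AlgebraicGeometry.Morphisms.ClosedImmersion
import Mathlib.RingTheory.Flat.Basic
import Mathlib.LinearAlgebra.TensorProduct.Quotient

/-! Sections over affine opens of the closed subscheme cut out by an ideal of the base ring. -/

universe u

open CategoryTheory CategoryTheory.Limits AlgebraicGeometry Opposite TopologicalSpace

namespace Groth.Agent.MiscTwoH99.UnitsThick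

variable {A : Type u} [CommRing A] {X : Scheme.{u}} (f : X ⟶ Spec (CommRingCat.of A))

/-- Constants. -/
noncomputable def cst (V : X.Opens) : A →+* Γ(X, V) :=
  (X.presheaf.map (homOfLE (le_top : V ≤ ⊤)).op).hom.comp
    (f.appTop.hom.comp (Scheme.ΓSpecIso (CommRingCat.of A)).inv.hom)

theorem res_cst {U V : X.Opens} (h : V ≤ U) (a : A) :
    X.presheaf.map (homOfLE h).op (cst f U a) = cst f V a := by
  show X.presheaf.map (homOfLE h).op (X.presheaf.map (homOfLE (le_top : U ≤ ⊤)).op _) =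
    X.presheaf.map (homOfLE (le_top : V ≤ ⊤)).op _
  rw [← CommRingCat.comp_apply, ← Functor.map_comp]
  rfl

variable {A' : Type u} [CommRing A'] (φ : A →+* A')

/-- The closed subscheme of `X` above `Spec A'`. -/
noncomputable abbrev incl : pullback f (Spec.map (CommRingCat.ofHom φ)) ⟶ X :=
  pullback.fst f (Spec.map (CommRingCat.ofHom φ))

theorem incl_cst (V : X.Opens) {a : A} (ha : φ a = 0) : (incl f φ).app V (cst f V a) = 0 := by
  let P := pullback f (Spec.map (CommRingCat.ofHom φ))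
  have h1 : (incl f φ).appTop (f.appTop ((Scheme.ΓSpecIso (CommRingCat.of A)).inv a)) = 0 := by
    rw [← CommRingCat.comp_apply, ← Scheme.Hom.comp_appTop, pullback.condition, Scheme.Hom.comp_appTop,
      CommRingCat.comp_apply]
    have h2 := congrArg (fun q => q.hom a) (Scheme.ΓSpecIso_inv_naturality (CommRingCat.ofHom φ))
    refine (congrArg _ h2.symm).trans ?_
    show (pullback.snd f (Spec.map (CommRingCat.ofHom φ))).appTop ((Scheme.ΓSpecIso _).inv (φ a)) = 0
    rw [ha, map_zero, map_zero]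
  show (incl f φ).app V (X.presheaf.map (homOfLE (le_top : V ≤ ⊤)).op _) = 0
  have h3 := congrArg (fun q => q.hom (f.appTop ((Scheme.ΓSpecIso (CommRingCat.of A)).inv a)))
    ((incl f φ).naturality (homOfLE (le_top : V ≤ ⊤)).op)
  refine h3.trans ?_
  show P.presheaf.map _ ((incl f φ).appTop _) = 0
  rw [h1, map_zero]

theorem fromSpec_comp {V : X.Opens} (hV : IsAffineOpen V) :
    hV.fromSpec ≫ f = Spec.map (CommRingCat.ofHom (cst f V)) := by
  have h := IsAffineOpen.SpecMap_appLE_fromSpec f (isAffineOpen_top (Spec (CommRingCat.of A))) hV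
    (by simp : V ≤ f ⁻¹ᵁ ⊤)
  rw [← h, IsAffineOpen.fromSpec_top, Scheme.isoSpec_Spec_inv, ← Spec.map_comp]
  rfl

variable (hφ : Function.Surjective φ)
include hφ

theorem isClosedImmersion_incl : IsClosedImmersion (incl f φ) := by
  haveI := IsClosedImmersion.spec_of_surjective (CommRingCat.ofHom φ) hφ
  infer_instance

theorem incl_app_surjective {V : X.Opens} (hV : IsAffineOpen V) : Function.Surjective ((incl f φ).app V) := by
  haveI := isClosedImmersion_incl f φ hφ
  exact (incl f φ).app_surjective V hV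

theorem incl_app_eq_zero_iff {V : X.Opens} (hV : IsAffineOpen V) (x : Γ(X, V)) :
    (incl f φ).app V x = 0 ↔ x ∈ (RingHom.ker φ).map (cst f V) := by
  refine ⟨fun h => ?_, fun h => ?_⟩
  · let 𝔟 := (RingHom.ker φ).map (cst f V)
    let ψ : A' →+* Γ(X, V) ⧸ 𝔟 := RingHom.liftOfSurjective φ hφ ⟨(Ideal.Quotient.mk 𝔟).comp (cst f V), fun a ha => by
      rw [RingHom.mem_ker, RingHom.comp_apply, Ideal.Quotient.eq_zero_iff_mem]
      exact Ideal.mem_map_of_mem _ ha⟩
    have hψ : ψ.comp φ = (Ideal.Quotient.mk 𝔟).comp (cst f V) := RingHom.liftOfSurjective_comp φ hφ _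
    let s : Spec (CommRingCat.of (Γ(X, V) ⧸ 𝔟)) ⟶ X := Spec.map (CommRingCat.ofHom (Ideal.Quotient.mk 𝔟)) ≫ hV.fromSpec
    let q := pullback.lift s (Spec.map (CommRingCat.ofHom ψ)) (f := f) (g := Spec.map (CommRingCat.ofHom φ)) (by
      rw [Category.assoc, fromSpec_comp f hV, ← Spec.map_comp, ← Spec.map_comp, ← CommRingCat.ofHom_comp,
        ← CommRingCat.ofHom_comp, hψ])
    have eW : (⊤ : (Spec (CommRingCat.of (Γ(X, V) ⧸ 𝔟))).Opens) ≤ s ⁻¹ᵁ V := by
      show ⊤ ≤ Spec.map (CommRingCat.ofHom (Ideal.Quotient.mk 𝔟)) ⁻¹ᵁ (hV.fromSpec ⁻¹ᵁ V)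
      rw [hV.fromSpec_preimage_self]
      exact le_rfl
    have hqs : q ≫ incl f φ = s := pullback.lift_fst _ _ _
    have h1 : s.appLE V ⊤ eW x = 0 := by
      have hq : q ⁻¹ᵁ (incl f φ ⁻¹ᵁ V) = s ⁻¹ᵁ V := by rw [← hqs]; rfl
      have h2 := Scheme.Hom.appLE_comp_appLE q (incl f φ) V (incl f φ ⁻¹ᵁ V) ⊤ le_rfl (hq ▸ eW)
      simp only [hqs] at h2
      rw [← h2, CommRingCat.comp_apply, ← Scheme.Hom.app_eq_appLE, h, map_zero]
    have h3 : s.appLE V ⊤ eW =
        CommRingCat.ofHom (Ideal.Quotient.mk 𝔟) ≫ (Scheme.ΓSpecIso (CommRingCat.of (Γ(X, V) ⧸ 𝔟))).inv := by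
      have h2 := Scheme.Hom.appLE_comp_appLE (Spec.map (CommRingCat.ofHom (Ideal.Quotient.mk 𝔟))) hV.fromSpec V ⊤ ⊤
        (by rw [hV.fromSpec_preimage_self]) le_rfl
      have h5 : hV.fromSpec.appLE V ⊤ (by rw [hV.fromSpec_preimage_self]) = (Scheme.ΓSpecIso Γ(X, V)).inv := by
        rw [Scheme.Hom.appLE, IsAffineOpen.fromSpec_app_self, Category.assoc, ← Functor.map_comp]
        exact (congrArg (_ ≫ ·) ((Spec Γ(X, V)).presheaf.map_id _)).trans (Category.comp_id _)
      refine h2.symm.trans ?_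
      rw [h5, Scheme.ΓSpecIso_inv_naturality]
      exact congrArg (_ ≫ ·) (Scheme.Hom.app_eq_appLE (Spec.map (CommRingCat.ofHom (Ideal.Quotient.mk 𝔟)))).symm
    rw [h3] at h1
    refine Ideal.Quotient.eq_zero_iff_mem.mp
      ((ConcreteCategory.bijective_of_isIso (Scheme.ΓSpecIso (CommRingCat.of (Γ(X, V) ⧸ 𝔟))).inv).1 ?_)
    rw [map_zero]
    exact h1
  · refine (Ideal.map_le_iff_le_comap.mpr fun a ha => ?_ : (RingHom.ker φ).map (cst f V) ≤ RingHom.ker ((incl f φ).app V).hom) h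
    exact incl_cst f φ V ha

omit hφ in
theorem flat_cst [Flat f] {V : X.Opens} (hV : IsAffineOpen V) : (cst f V).Flat := by
  have h : RingHom.Flat (f.appLE ⊤ V (by simp)).hom :=
    HasRingHomProperty.appLE @Flat f inferInstance ⟨⊤, isAffineOpen_top _⟩ ⟨V, hV⟩ _
  have h' := RingHom.Flat.comp (f := (Scheme.ΓSpecIso (CommRingCat.of A)).inv.hom) (RingHom.Flat.of_bijective
    (ConcreteCategory.bijective_of_isIso (Scheme.ΓSpecIso (CommRingCat.of A)).inv)) h
  exact h'

omit hφ in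
/-- Colon ideals and flat algebras. -/
theorem mul_mem_map_iff {B : Type u} [CommRing B] {c : A →+* B} (hc : c.Flat) {J m : Ideal A} {t : A}
    (hm : ∀ a, a * t ∈ J ↔ a ∈ m) (x : B) : c t * x ∈ J.map c ↔ x ∈ m.map c := by
  letI := c.toAlgebra
  haveI : Module.Flat A B := hc
  let μ : (A ⧸ m) →ₗ[A] (A ⧸ J) := Submodule.mapQ m J (LinearMap.toSpanSingleton A A t) fun a ha => (hm a).mpr ha
  have hμ : Function.Injective μ := by
    rw [← LinearMap.ker_eq_bot, eq_bot_iff]
    intro z hz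
    obtain ⟨a, rfl⟩ := Submodule.Quotient.mk_surjective m z
    rw [Submodule.mem_bot, Submodule.Quotient.mk_eq_zero]
    refine (hm a).mp ?_
    rw [LinearMap.mem_ker] at hz
    exact (Submodule.Quotient.mk_eq_zero J).mp hz
  have hinj := Module.Flat.lTensor_preserves_injective_linearMap (M := B) μ hμ
  have key : ∀ (K : Ideal A) (y : B),
      (y ∈ K.map c ↔ y ⊗ₜ[A] (Ideal.Quotient.mk K 1) = (0 : TensorProduct A B (A ⧸ K))) := fun K y => by
    rw [← (TensorProduct.tensorQuotEquivQuotSMul B K).map_eq_zero_iff,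
      show TensorProduct.tensorQuotEquivQuotSMul B K (y ⊗ₜ[A] Ideal.Quotient.mk K 1) = Submodule.Quotient.mk y by
        simp [TensorProduct.tensorQuotEquivQuotSMul],
      Submodule.Quotient.mk_eq_zero, Ideal.smul_top_eq_map]
    rfl
  rw [key, key m, ← map_eq_zero_iff _ hinj, LinearMap.lTensor_tmul]
  have h1 : μ (Ideal.Quotient.mk m 1) = t • Ideal.Quotient.mk J 1 := by
    show Submodule.Quotient.mk ((1 : A) • t) = t • Submodule.Quotient.mk (1 : A)
    rw [one_smul, ← Submodule.Quotient.mk_smul, smul_eq_mul, mul_one]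
  rw [h1, TensorProduct.tmul_smul, TensorProduct.smul_tmul']
  rfl

end Groth.Agent.MiscTwoH99.UnitsThick
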