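import Groth.Agent.MiscTwoH99.UnitsThick.Induct

/-! Units along a split first order thickening. -/

universe u

open CategoryTheory CategoryTheory.Limits AlgebraicGeometry Opposite TopologicalSpace

namespace Groth.Agent.MiscTwoH99.UnitsThick

variable {X P : Scheme.{u}} (i : P ⟶ X) (r : X ⟶ P) (hir : i ≫ r = 𝟙 P) (hsurj : Function.Surjective i.base)

include hir hsurj in
theorem le_preimage_retraction (V : X.Opens) : V ≤ r ⁻¹ᵁ (i ⁻¹ᵁ V) := by
  intro x hx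
  obtain ⟨y, rfl⟩ := hsurj x
  have h : r (i y) = y := by rw [← Scheme.Hom.comp_apply, hir]; rfl
  show i (r (i y)) ∈ V
  rwa [h]

/-- Units of the closed subscheme, pulled back by a retraction. -/
noncomputable def lift (e : ∀ V : X.Opens, V ≤ r ⁻¹ᵁ (i ⁻¹ᵁ V)) :
    (CohTop.push i.base).obj (UnitsSh.unitsAb P) ⟶ UnitsSh.unitsAb X :=
  ⟨{ app := fun U => AddCommGrpCat.ofHom (X := ((CohTop.push i.base).obj (UnitsSh.unitsAb P)).obj.obj U)
      (Y := (UnitsSh.unitsAb X).obj.obj U)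
      { toFun := fun s => UnitsSh.sectOfUnit (X := X.toTopCat) (O := X.presheaf)
          (Units.map (r.appLE (i ⁻¹ᵁ U.unop) U.unop (e U.unop)).hom.toMonoidHom (un (X := P) (V := i ⁻¹ᵁ U.unop) s))
        map_zero' := un_injective (V := U.unop) (by
          show Units.map _ (un (X := P) (V := i ⁻¹ᵁ U.unop) 0) = 1
          rw [un_zero, map_one])
        map_add' := fun s t => un_injective (V := U.unop) (by
          exact map_mul (Units.map (r.appLE (i ⁻¹ᵁ U.unop) U.unop (e U.unop)).hom.toMonoidHom)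
            (un (X := P) (V := i ⁻¹ᵁ U.unop) s) (un (X := P) (V := i ⁻¹ᵁ U.unop) t)) }
     naturality := fun ⟨U⟩ ⟨V⟩ h => ConcreteCategory.hom_ext _ _ fun s => un_injective (V := V) (Units.ext (by
       show r.appLE (i ⁻¹ᵁ V) V (e V) (P.presheaf.map (homOfLE (i.preimage_mono h.unop.le)).op
           (un (X := P) (V := i ⁻¹ᵁ U) s : Γ(P, i ⁻¹ᵁ U))) =
         X.presheaf.map h (r.appLE (i ⁻¹ᵁ U) U (e U) (un (X := P) (V := i ⁻¹ᵁ U) s : Γ(P, i ⁻¹ᵁ U)))
       rw [← CommRingCat.comp_apply, ← CommRingCat.comp_apply, Scheme.Hom.map_appLE, Scheme.Hom.appLE_map])) }⟩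

include hir hsurj in
theorem lift_comap (e : ∀ V : X.Opens, V ≤ r ⁻¹ᵁ (i ⁻¹ᵁ V)) : lift i r e ≫ UnitsSh.comap i = 𝟙 _ := by
  refine hom_ext_affine fun V _ s => un_injective (X := P) (V := i ⁻¹ᵁ V) (Units.ext ?_)
  show i.app V (r.appLE (i ⁻¹ᵁ V) V (e V) (un (X := P) (V := i ⁻¹ᵁ V) s : Γ(P, i ⁻¹ᵁ V))) =
    (un (X := P) (V := i ⁻¹ᵁ V) s : Γ(P, i ⁻¹ᵁ V))
  rw [← CommRingCat.comp_apply, Scheme.Hom.app_eq_appLE, Scheme.Hom.appLE_comp_appLE]
  simp only [hir]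
  simp [Scheme.Hom.appLE]
  show (P.presheaf.map (𝟙 (op (i ⁻¹ᵁ V)))).hom (un (X := P) (V := i ⁻¹ᵁ V) s : Γ(P, i ⁻¹ᵁ V)) = _
  rw [P.presheaf.map_id]
  rfl

variable {A A₁ : Type u} [CommRing A] [CommRing A₁] (f : X ⟶ Spec (CommRingCat.of A))

theorem ker_H_map_comap_equiv [Flat f] (φ : A →+* A₁) (hφ : Function.Surjective φ) (t : A)
    (hker : RingHom.ker φ = Ideal.span {t}) (ht : ∀ a, a * t = 0 ↔ a ∈ RingHom.ker φ)
    (r : X ⟶ pullback f (Spec.map (CommRingCat.ofHom φ))) (hr : incl f φ ≫ r = 𝟙 _)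
    (hs : Function.Surjective (incl f φ).base) (q : ℕ) :
    Nonempty ((Sheaf.H.map (UnitsSh.comap (incl f φ)) q).ker ≃+
      Coh.HH (pullback f (Spec.map (CommRingCat.ofHom φ))) (Coh.structureModule _) q) := by
  have hid : RingHom.ker (RingHom.id A) = ⊥ := (RingHom.injective_iff_ker_eq_bot _).mp Function.injective_id
  have hsq : t * t = 0 := (ht t).mpr (hker ▸ Ideal.mem_span_singleton_self t)
  have hnil : ∀ a ∈ RingHom.ker φ, IsNilpotent a := fun a ha => by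
    rw [hker, Ideal.mem_span_singleton'] at ha
    obtain ⟨b, rfl⟩ := ha
    exact ⟨2, by rw [sq, mul_mul_mul_comm, hsq, mul_zero]⟩
  obtain ⟨I, j, e, w, hS, ⟨ι⟩⟩ := exists_layer (A₀ := A₁) (A₁ := A) (A₂ := A₁) f φ hφ (RingHom.id A)
    Function.surjective_id φ hφ t (by rw [hid, hker, bot_sup_eq]) (fun a => by rw [hid, Ideal.mem_bot, ht])
    (by rw [hid, Ideal.mem_bot, hsq]) hnil
  haveI : IsIso e := hS.isIso_g_iff.mpr (isZero_Ker f _ Function.surjective_id hid)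
  obtain ⟨E₁⟩ := H_equiv_of_iso (asIso e) q
  obtain ⟨E₂⟩ := H_equiv_closedFibre f φ hφ ι q
  let σ := lift (incl f φ) r (le_preimage_retraction (incl f φ) r hr hs)
  have hσ : σ ≫ UnitsSh.comap (incl f φ) = 𝟙 _ := lift_comap (incl f φ) r hr hs _
  let ρ : UnitsSh.unitsAb X ⟶ Ker f φ := kernel.lift _ (𝟙 _ - UnitsSh.comap (incl f φ) ≫ σ) (by
    rw [Preadditive.sub_comp, Category.assoc, hσ, Category.id_comp, Category.comp_id, sub_self])
  obtain ⟨E₀⟩ := ker_H_map_equiv _ (shortExact_units f φ hφ hnil) q ρ ((cancel_mono (kernel.ι _)).mp (by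
    show (kernel.ι (UnitsSh.comap (incl f φ)) ≫ ρ) ≫ _ = 𝟙 _ ≫ _
    rw [Category.assoc, kernel.lift_ι, Preadditive.comp_sub, Category.comp_id, kernel.condition_assoc, zero_comp,
      sub_zero, Category.id_comp]))
  exact ⟨E₀.symm.trans (E₁.trans E₂)⟩

end Groth.Agent.MiscTwoH99.UnitsThick
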