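import Groth.Agent.MiscTwoH99.UnitsThick.Basic

/-! The exponential of a square-zero subsheaf of the structure sheaf, and units along a thickening. -/

universe u

open CategoryTheory CategoryTheory.Limits AlgebraicGeometry Opposite TopologicalSpace

namespace Groth.Agent.MiscTwoH99.UnitsThick

/-- The structure sheaf as a sheaf of abelian groups. -/
noncomputable abbrev OO (X : Scheme.{u}) : CohTop.Ab X.toTopCat := Coh.toAb (Coh.structureModule X)

variable {X : Scheme.{u}}

/-- A section of the structure sheaf as a function. -/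
noncomputable def fn {V : X.Opens} (s : (OO X).obj.obj (op V)) : Γ(X, V) := s

/-- A function as a section of the structure sheaf. -/
noncomputable def sect {V : X.Opens} (s : Γ(X, V)) : (OO X).obj.obj (op V) := s

theorem fn_add {V : X.Opens} (s t : (OO X).obj.obj (op V)) : fn (s + t) = fn s + fn t := rfl

theorem fn_zero {V : X.Opens} : fn (0 : (OO X).obj.obj (op V)) = 0 := rfl

theorem fn_injective {V : X.Opens} : Function.Injective (fn : (OO X).obj.obj (op V) → Γ(X, V)) := fun _ _ h => h

theorem fn_sect {V : X.Opens} (s : Γ(X, V)) : fn (sect s) = s := rfl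

theorem fn_map {U V : X.Opens} (h : V ≤ U) (s : (OO X).obj.obj (op U)) :
    fn (res (OO X) h s) = X.presheaf.map (homOfLE h).op (fn s) := rfl

/-- A section of units as a unit. -/
noncomputable def un {V : X.Opens} (s : (UnitsSh.unitsAb X).obj.obj (op V)) : Γ(X, V)ˣ := UnitsSh.unitOfSect s

theorem un_injective {V : X.Opens} : Function.Injective (un : (UnitsSh.unitsAb X).obj.obj (op V) → Γ(X, V)ˣ) :=
  fun _ _ h => h

theorem un_add {V : X.Opens} (s t : (UnitsSh.unitsAb X).obj.obj (op V)) : un (s + t) = un s * un t := rfl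

theorem un_zero {V : X.Opens} : un (0 : (UnitsSh.unitsAb X).obj.obj (op V)) = 1 := rfl

theorem exists_un_eq {V : X.Opens} (v : Γ(X, V)ˣ) : ∃ s : (UnitsSh.unitsAb X).obj.obj (op V), un s = v :=
  ⟨UnitsSh.sectOfUnit (X := X.toTopCat) (O := X.presheaf) v, rfl⟩

variable {F : CohTop.Ab X.toTopCat} (a : F ⟶ OO X)
  (ha : ∀ (V : X.Opens) (s t : F.obj.obj (op V)), fn (a.hom.app (op V) s) * fn (a.hom.app (op V) t) = 0)

/-- `1 + a s` as a unit. -/
noncomputable def onePlus {V : X.Opens} (s : F.obj.obj (op V)) : Γ(X, V)ˣ where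
  val := 1 + fn (a.hom.app (op V) s)
  inv := 1 - fn (a.hom.app (op V) s)
  val_inv := by linear_combination -(ha V s s)
  inv_val := by linear_combination -(ha V s s)

/-- The exponential. -/
noncomputable def expo : F ⟶ UnitsSh.unitsAb X :=
  ⟨{ app := fun U => AddCommGrpCat.ofHom (X := F.obj.obj U) (Y := (UnitsSh.unitsAb X).obj.obj U)
      { toFun := fun s => UnitsSh.sectOfUnit (X := X.toTopCat) (O := X.presheaf) (onePlus a ha (V := U.unop) s)
        map_zero' := un_injective (V := U.unop) (Units.ext (by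
          show 1 + fn (a.hom.app (op U.unop) 0) = 1
          rw [map_zero, fn_zero, add_zero]))
        map_add' := fun s t => un_injective (V := U.unop) (Units.ext (by
          show 1 + fn (a.hom.app (op U.unop) (s + t)) =
            (1 + fn (a.hom.app (op U.unop) s)) * (1 + fn (a.hom.app (op U.unop) t))
          rw [map_add, fn_add]
          linear_combination -(ha U.unop s t))) }
     naturality := fun ⟨U⟩ ⟨V⟩ i => ConcreteCategory.hom_ext _ _ fun s => un_injective (V := V) (Units.ext (by
       show 1 + fn (a.hom.app (op V) (F.obj.map i s)) = X.presheaf.map i (1 + fn (a.hom.app (op U) s))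
       rw [map_add, map_one]
       exact congrArg (1 + ·) (ConcreteCategory.congr_hom (a.hom.naturality i) s))) }⟩

theorem un_expo {V : X.Opens} (s : F.obj.obj (op V)) :
    (un ((expo a ha).hom.app (op V) s) : Γ(X, V)) = 1 + fn (a.hom.app (op V) s) := rfl

theorem expo_eq_zero_iff {V : X.Opens} (s : F.obj.obj (op V)) :
    (expo a ha).hom.app (op V) s = 0 ↔ fn (a.hom.app (op V) s) = 0 := by
  rw [← un_injective.eq_iff, Units.ext_iff, un_expo, un_zero, Units.val_one, add_eq_left]

variable {Y : Scheme.{u}} (f : Y ⟶ X)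

theorem comap_eq_zero_iff {V : X.Opens} (s : (UnitsSh.unitsAb X).obj.obj (op V)) :
    (UnitsSh.comap f).hom.app (op V) s = 0 ↔ f.app V (un s : Γ(X, V)) = 1 := by
  refine Iff.trans ?_ (Units.ext_iff (u := Units.map (f.app V).hom.toMonoidHom (un s)) (v := 1))
  exact ⟨fun h => congrArg (UnitsSh.unitOfSect (X := X.toTopCat) (O := f.base _* Y.presheaf)) h, fun h => h⟩

theorem comap_surjective {V : X.Opens} (hs : Function.Surjective (f.app V))
    (hn : ∀ x, f.app V x = 0 → IsNilpotent x) : Function.Surjective ((UnitsSh.comap f).hom.app (op V)) := by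
  intro t
  let v : Γ(Y, f ⁻¹ᵁ V)ˣ := UnitsSh.unitOfSect (X := X.toTopCat) (O := f.base _* Y.presheaf) t
  obtain ⟨b, hb⟩ := hs (v : Γ(Y, f ⁻¹ᵁ V))
  obtain ⟨c, hc⟩ := hs (↑v⁻¹ : Γ(Y, f ⁻¹ᵁ V))
  have hu : IsUnit b := by
    have h1 : IsNilpotent (b * c - 1) := hn _ (by rw [map_sub, map_mul, hb, hc, map_one, Units.mul_inv, sub_self])
    have h2 := h1.isUnit_one_add
    rw [add_sub_cancel] at h2
    exact isUnit_of_mul_isUnit_left h2
  obtain ⟨s, hs⟩ := exists_un_eq hu.unit
  refine ⟨s, ?_⟩
  show Units.map (f.app V).hom.toMonoidHom (un s) = v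
  rw [hs]
  exact Units.ext hb

end Groth.Agent.MiscTwoH99.UnitsThick
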